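import Cfsg.Agent.SchurG.G24.Pres
import Cfsg.Agent.SchurG.G24.Top

set_option autoImplicit false
set_option maxRecDepth 100000

namespace Cfsg.Agent.SchurG.G24
open Cfsg.Agent.Comp

namespace Tk6

noncomputable def t0 : Tr := (Tr.leaf (nat_lit 0x1fffff800fffffc007ffffe003fffff001fffff800fffffc007ffffe003fffff001fffff800fffffc007ffffe003fffff001fffff800fffffe087ff020003ff831))

noncomputable def T : Tr := t0

def RT : List (List (List Nat)) := [
  [],
  []]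

def HT : List (List (Nat × Nat × Nat)) := [
  [],
  []]

def R : List (List Nat) :=
  [[0, 0]]

def W : List (List Nat) := []

noncomputable def P : Par := ⟨T, (nat_lit 4), (nat_lit 15), (nat_lit 33), (nat_lit 11), (nat_lit 2047), (nat_lit 5), (nat_lit 31), (nat_lit 1), (nat_lit 18), (nat_lit 32), (nat_lit 0x820), RT⟩

noncomputable def J0 : List Nat := [
  nat_lit 0x69249249249249249249249]

theorem c0 : chk T (nat_lit 4) (nat_lit 15) (nat_lit 33) (nat_lit 11) (nat_lit 2047) (nat_lit 5) (nat_lit 31) (nat_lit 1) (nat_lit 18) (nat_lit 32) (nat_lit 0x820) (nat_lit 1) (nat_lit 1) RT (nat_lit 16) J0 (nat_lit 16) = true := by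
  decide +kernel

theorem r0 : P.RowsOK 16 32 := chk_sound P _ _ _ J0 _ _ (by decide +kernel) c0

theorem index.{u} : IndexLe.{u} 1 R W 2 :=
  indexLe_of_cert P HT (by decide +kernel)
    (show P.RowsOK 16 32 from r0)

end Tk6

theorem upK_6 : CardLe (genW s [[0]]) 2 :=
  CardLe.tc (V' := []) (n := 2) (m := 1) [0] Tk6.index pres.sat (by decide +kernel) (by decide +kernel) (by decide +kernel) (cardLe_nil s)

namespace Tk5

noncomputable def t0 : Tr := (Tr.leaf (nat_lit 0x1ffffffff001ffffffff001ffffffff001ffffffff001ffffffff001ffffffff001ffffffff001ffffffff001ffffffff001ffffffff001ffffffff001ffffffff001ffffffff001ffffffff861ffc08051001ffc18830))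

noncomputable def T : Tr := t0

def RT : List (List (List Nat)) := [
  [[nat_lit 3],
   [nat_lit 1, nat_lit 0, nat_lit 1]],
  [],
  []]

def HT : List (List (Nat × Nat × Nat)) := [
  [(2, 0, 0), (0, 2, 1)],
  [],
  []]

def R : List (List Nat) :=
  [[0, 0],
   [1, 1],
   [0, 1, 0, 1]]

def W : List (List Nat) := [[0]]

noncomputable def P : Par := ⟨T, (nat_lit 4), (nat_lit 15), (nat_lit 44), (nat_lit 11), (nat_lit 2047), (nat_lit 5), (nat_lit 31), (nat_lit 2), (nat_lit 18), (nat_lit 32), (nat_lit 0x18820), RT⟩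

noncomputable def J0 : List Nat := [
  nat_lit 0x4d0791111111111111111111111111111111111111111111]

theorem c0 : chk T (nat_lit 4) (nat_lit 15) (nat_lit 44) (nat_lit 11) (nat_lit 2047) (nat_lit 5) (nat_lit 31) (nat_lit 2) (nat_lit 18) (nat_lit 32) (nat_lit 0x18820) (nat_lit 2) (nat_lit 3) RT (nat_lit 16) J0 (nat_lit 16) = true := by
  decide +kernel

theorem r0 : P.RowsOK 16 32 := chk_sound P _ _ _ J0 _ _ (by decide +kernel) c0

theorem index.{u} : IndexLe.{u} 2 R W 2 :=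
  indexLe_of_cert P HT (by decide +kernel)
    (show P.RowsOK 16 32 from r0)

end Tk5

theorem upK_5 : CardLe (genW s [[0], [1]]) 4 :=
  CardLe.tc (V' := [[0]]) (n := 2) (m := 2) [0, 1] Tk5.index pres.sat (by decide +kernel) (by decide +kernel) (by decide +kernel) upK_6

namespace Tk4

noncomputable def t0 : Tr := (Tr.leaf (nat_lit 0x1ffffffffffe003ffffffffffc007ffffffffff800fffffffffff001ffffffffffe003ffffffffffc007ffffffffff800fffffffffff001ffffffffffe003ffffffffffc007ffffffffff800fffffffffff001ffffffffffe003ffffffffffe287ff02014428800ffe0c418030))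

noncomputable def T : Tr := t0

def RT : List (List (List Nat)) := [
  [[nat_lit 4],
   [nat_lit 2, nat_lit 0, nat_lit 2]],
  [[nat_lit 4],
   [nat_lit 2, nat_lit 0, nat_lit 1, nat_lit 2]],
  [],
  []]

def HT : List (List (Nat × Nat × Nat)) := [
  [(2, 0, 0), (0, 4, 1)],
  [(2, 1, 0), (0, 5, 4)],
  [],
  []]

def R : List (List Nat) :=
  [[0, 0],
   [1, 1],
   [2, 2],
   [0, 1, 0, 1],
   [0, 2, 0, 2],
   [0, 1, 2, 1, 2]]

def W : List (List Nat) := [[0],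
   [1]]

noncomputable def P : Par := ⟨T, (nat_lit 4), (nat_lit 15), (nat_lit 55), (nat_lit 11), (nat_lit 2047), (nat_lit 5), (nat_lit 31), (nat_lit 3), (nat_lit 18), (nat_lit 32), (nat_lit 0x418820), RT⟩

noncomputable def J0 : List Nat := [
  nat_lit 0x134001341f9111111111111111111111111111111111111111111111111111111111]

theorem c0 : chk T (nat_lit 4) (nat_lit 15) (nat_lit 55) (nat_lit 11) (nat_lit 2047) (nat_lit 5) (nat_lit 31) (nat_lit 3) (nat_lit 18) (nat_lit 32) (nat_lit 0x418820) (nat_lit 2) (nat_lit 3) RT (nat_lit 16) J0 (nat_lit 16) = true := by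
  decide +kernel

theorem r0 : P.RowsOK 16 32 := chk_sound P _ _ _ J0 _ _ (by decide +kernel) c0

theorem index.{u} : IndexLe.{u} 3 R W 2 :=
  indexLe_of_cert P HT (by decide +kernel)
    (show P.RowsOK 16 32 from r0)

end Tk4

theorem upK_4 : CardLe (genW s [[0], [1], [2]]) 8 :=
  CardLe.tc (V' := [[0], [1]]) (n := 2) (m := 4) [0, 1, 2] Tk4.index pres.sat (by decide +kernel) (by decide +kernel) (by decide +kernel) upK_5

namespace Tk3

noncomputable def t0 : Tr := (Tr.leaf (nat_lit 0xfffffffffffffff000fffffffffffffff000fffffffffffffff000fffffffffffffff000fffffffffffffff000fffffffffffffff000fffffffffffffff000fffffffffffffff000fffffffffffffff000fffffffffffffff000fffffffffffffff000fffffffffffffff000fffffffffffffff851fff052011072072470fff010032051051000fff031030030030))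

noncomputable def T : Tr := t0

def RT : List (List (List Nat)) := [
  [[nat_lit 5],
   [nat_lit 3, nat_lit 0, nat_lit 1, nat_lit 3],
   [nat_lit 2, nat_lit 0, nat_lit 2]],
  [[nat_lit 5],
   [nat_lit 3, nat_lit 1, nat_lit 3],
   [nat_lit 2, nat_lit 0, nat_lit 1, nat_lit 2]],
  [[nat_lit 5]],
  [[nat_lit 2, nat_lit 3, nat_lit 2, nat_lit 3, nat_lit 2]],
  []]

def HT : List (List (Nat × Nat × Nat)) := [
  [(2, 0, 0), (0, 8, 4), (0, 5, 1)],
  [(2, 1, 0), (0, 7, 1), (0, 6, 4)],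
  [(2, 2, 0)],
  [(0, 9, 0)],
  []]

def R : List (List Nat) :=
  [[0, 0],
   [1, 1],
   [2, 2],
   [3, 3],
   [0, 1, 0, 1],
   [0, 2, 0, 2],
   [0, 1, 2, 1, 2],
   [1, 3, 1, 3],
   [0, 1, 3, 0, 3],
   [2, 3, 2, 3, 2, 3]]

def W : List (List Nat) := [[0],
   [1],
   [2]]

noncomputable def P : Par := ⟨T, (nat_lit 4), (nat_lit 15), (nat_lit 72), (nat_lit 12), (nat_lit 4095), (nat_lit 5), (nat_lit 31), (nat_lit 4), (nat_lit 19), (nat_lit 32), (nat_lit 0xa418820), RT⟩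

noncomputable def J0 : List Nat := [
  nat_lit 0x8c8002320008c80b622192282108421084210842108421084210842108421084210842108421084210842108421084210842108421]

theorem c0 : chk T (nat_lit 4) (nat_lit 15) (nat_lit 72) (nat_lit 12) (nat_lit 4095) (nat_lit 5) (nat_lit 31) (nat_lit 4) (nat_lit 19) (nat_lit 32) (nat_lit 0xa418820) (nat_lit 3) (nat_lit 7) RT (nat_lit 16) J0 (nat_lit 16) = true := by
  decide +kernel

theorem r0 : P.RowsOK 16 32 := chk_sound P _ _ _ J0 _ _ (by decide +kernel) c0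

theorem index.{u} : IndexLe.{u} 4 R W 3 :=
  indexLe_of_cert P HT (by decide +kernel)
    (show P.RowsOK 16 32 from r0)

end Tk3

theorem upK_3 : CardLe (genW s [[0], [1], [2], [3]]) 24 :=
  CardLe.tc (V' := [[0], [1], [2]]) (n := 3) (m := 8) [0, 1, 2, 3] Tk3.index pres.sat (by decide +kernel) (by decide +kernel) (by decide +kernel) upK_4

namespace Tk2

noncomputable def t0 : Tr := (Tr.leaf (nat_lit 0xffffffffffffffffff000ffffffffffffffffff000ffffffffffffffffff000ffffffffffffffffff000ffffffffffffffffff000ffffffffffffffffff000ffffffffffffffffff000ffffffffffffffffff000ffffffffffffffffffc72fff0d5012076074096c52fff0f6055012095053871fff0540110b4096094851fff0530b3011093075811fff052036035051011490fff010034033072032000fff031030030030030))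

noncomputable def T : Tr := t0

def RT : List (List (List Nat)) := [
  [[nat_lit 2, nat_lit 0, nat_lit 2],
   [nat_lit 6],
   [nat_lit 3, nat_lit 0, nat_lit 1, nat_lit 3],
   [nat_lit 3, nat_lit 1, nat_lit 0, nat_lit 3]],
  [[nat_lit 6],
   [nat_lit 0, nat_lit 4, nat_lit 3, nat_lit 2, nat_lit 0, nat_lit 3, nat_lit 4],
   [nat_lit 3, nat_lit 1, nat_lit 3],
   [nat_lit 2, nat_lit 0, nat_lit 1, nat_lit 2],
   [nat_lit 2, nat_lit 1, nat_lit 2, nat_lit 0]],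
  [[nat_lit 3, nat_lit 2, nat_lit 3, nat_lit 2, nat_lit 3],
   [nat_lit 6],
   [nat_lit 0, nat_lit 1, nat_lit 2, nat_lit 1]],
  [[nat_lit 2, nat_lit 0, nat_lit 4, nat_lit 0, nat_lit 1, nat_lit 4, nat_lit 0, nat_lit 2],
   [nat_lit 6],
   [nat_lit 0, nat_lit 1, nat_lit 3, nat_lit 0]],
  [[nat_lit 0, nat_lit 4, nat_lit 0, nat_lit 4, nat_lit 0],
   [nat_lit 2, nat_lit 4, nat_lit 2, nat_lit 4, nat_lit 2],
   [nat_lit 3, nat_lit 4, nat_lit 3, nat_lit 4, nat_lit 3],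
   [nat_lit 1, nat_lit 0, nat_lit 4, nat_lit 2, nat_lit 3, nat_lit 1, nat_lit 2]],
  []]

def HT : List (List (Nat × Nat × Nat)) := [
  [(0, 6, 1), (2, 0, 0), (0, 9, 4), (1, 9, 2)],
  [(2, 1, 0), (1, 16, 7), (0, 8, 1), (0, 7, 4), (0, 7, 2)],
  [(0, 10, 1), (2, 2, 0), (0, 7, 0)],
  [(0, 17, 6), (2, 3, 0), (0, 9, 0)],
  [(0, 11, 0), (0, 12, 0), (0, 13, 0), (1, 14, 6)],
  []]

def R : List (List Nat) :=
  [[0, 0],
   [1, 1],
   [2, 2],
   [3, 3],
   [4, 4],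
   [0, 1, 0, 1],
   [0, 2, 0, 2],
   [0, 1, 2, 1, 2],
   [1, 3, 1, 3],
   [0, 1, 3, 0, 3],
   [2, 3, 2, 3, 2, 3],
   [0, 4, 0, 4, 0, 4],
   [2, 4, 2, 4, 2, 4],
   [3, 4, 3, 4, 3, 4],
   [0, 1, 4, 2, 1, 3, 2, 4],
   [1, 4, 1, 4, 1, 4],
   [0, 1, 4, 3, 0, 2, 3, 4],
   [0, 1, 4, 0, 2, 3, 2, 0, 4],
   [0, 1, 4, 2, 0, 3, 0, 2, 4]]

def W : List (List Nat) := [[0],
   [1],
   [2],
   [3]]

noncomputable def P : Par := ⟨T, (nat_lit 4), (nat_lit 15), (nat_lit 84), (nat_lit 12), (nat_lit 4095), (nat_lit 5), (nat_lit 31), (nat_lit 5), (nat_lit 23), (nat_lit 32), (nat_lit 0x18a418820), RT⟩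

noncomputable def J0 : List Nat := [
  nat_lit 0x139000464001390004e404002218b010468c61a2460558a019146842108421084210842108421084210842108421084210842108421084210842108421]

theorem c0 : chk T (nat_lit 4) (nat_lit 15) (nat_lit 84) (nat_lit 12) (nat_lit 4095) (nat_lit 5) (nat_lit 31) (nat_lit 5) (nat_lit 23) (nat_lit 32) (nat_lit 0x18a418820) (nat_lit 3) (nat_lit 7) RT (nat_lit 16) J0 (nat_lit 16) = true := by
  decide +kernel

theorem r0 : P.RowsOK 16 32 := chk_sound P _ _ _ J0 _ _ (by decide +kernel) c0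

theorem index.{u} : IndexLe.{u} 5 R W 7 :=
  indexLe_of_cert P HT (by decide +kernel)
    (show P.RowsOK 16 32 from r0)

end Tk2

theorem upK_2 : CardLe (genW s [[0], [1], [2], [3], [4]]) 168 :=
  CardLe.tc (V' := [[0], [1], [2], [3]]) (n := 7) (m := 24) [0, 1, 2, 3, 4] Tk2.index pres.sat (by decide +kernel) (by decide +kernel) (by decide +kernel) upK_3

namespace Tk1

noncomputable def t0 : Tr := (Tr.node (nat_lit 0) (Tr.leaf (nat_lit 0x845bfff01b4016087c16a037c1e46357fff01b01e0005422403a812a6157fff01ac0e501a80dd00540dd6453fff01a40140a8025c047021c6253fff01a021b058401405841e56053fff019c1da0258225025c014644ffff019801303641180194161634ffff0190098004c15902500d7634bfff018c06200480610368118614bfff018005f036815600480934447fff0254011017809501740954347fff025005c004405b036005a4147fff024c059016015300440d64047fff0248092015c0d101580112543fff00400550150112014c0520003fff014405001400500140050))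
(Tr.node (nat_lit 1) (Tr.leaf (nat_lit 0xa39bfff04bc2ee00982ef0dbc36fa18ffff04c032f04b82b3008c2b3a57ffff007c26c0bcc12d01cc223857bfff00782ad03b026607b01ec8577fff00742ab07ac27203ac2b18377fff06a816a007411f02780de8573fff00700e90b9c3b110c83f2856ffff006c07207a00e807a0328856bfff00680710ca432701c00e78567fff00640e601bc2ac0c981e68167fff0b9409d04941da006419b8563fff00601a103901de049019f855ffff005c2e3038c1e301b826d845ffff0a8801703882200688162825ffff06841e4046c017046c119855bfff005821e09702620380120))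
(Tr.leaf (nat_lit 0x3ffffffffffffffffffffffff0003ffffffffffffffffffffffff0003ffffffffffffffffffffffff0003ffffffffffffffffffffffff0003ffffffffffffffffffffffff0003ffffffffffffffffffffffff0003ffffffffffffffffffffffff0003ffffffffffffffffffffffff0003ffffffffffffffffffffffff0003ffffffffffffffffffffffff0003ffffffffffffffffffffffff0003ffffffffffffffffffffffffc1b7fff04cc2f30ab42ee00b426ea4a3fff09c802810c022b0fa43a9a49ffff08c40270bc43690bc426ba19ffff03b833011c8370009c130))))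

noncomputable def T : Tr := t0

def RT : List (List (List Nat)) := [
  [[nat_lit 1, nat_lit 0, nat_lit 1],
   [nat_lit 1, nat_lit 3, nat_lit 0, nat_lit 3],
   [nat_lit 7],
   [nat_lit 5, nat_lit 0, nat_lit 5, nat_lit 0, nat_lit 5],
   [nat_lit 4, nat_lit 0, nat_lit 4, nat_lit 0, nat_lit 4],
   [nat_lit 4, nat_lit 5, nat_lit 2, nat_lit 4, nat_lit 2, nat_lit 5, nat_lit 4],
   [nat_lit 3, nat_lit 1, nat_lit 0, nat_lit 3],
   [nat_lit 2, nat_lit 3, nat_lit 4, nat_lit 0, nat_lit 1, nat_lit 4, nat_lit 3],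
   [nat_lit 4, nat_lit 0, nat_lit 5, nat_lit 2, nat_lit 4, nat_lit 2, nat_lit 5],
   [nat_lit 5, nat_lit 2, nat_lit 4, nat_lit 2, nat_lit 5, nat_lit 0, nat_lit 4],
   [nat_lit 2, nat_lit 0, nat_lit 2]],
  [[nat_lit 3, nat_lit 1, nat_lit 3],
   [nat_lit 0, nat_lit 3, nat_lit 0, nat_lit 3],
   [nat_lit 2, nat_lit 1, nat_lit 0, nat_lit 2],
   [nat_lit 5, nat_lit 1, nat_lit 5, nat_lit 1, nat_lit 5],
   [nat_lit 7],
   [nat_lit 4, nat_lit 1, nat_lit 4, nat_lit 1, nat_lit 4],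
   [nat_lit 0, nat_lit 1, nat_lit 0],
   [nat_lit 0, nat_lit 2, nat_lit 1, nat_lit 2]],
  [[nat_lit 5, nat_lit 4, nat_lit 0, nat_lit 5, nat_lit 0, nat_lit 4, nat_lit 5],
   [nat_lit 7],
   [nat_lit 5, nat_lit 2, nat_lit 5, nat_lit 2, nat_lit 5],
   [nat_lit 4, nat_lit 5, nat_lit 0, nat_lit 4, nat_lit 0, nat_lit 5, nat_lit 4],
   [nat_lit 4, nat_lit 0, nat_lit 5, nat_lit 0, nat_lit 4, nat_lit 2, nat_lit 5],
   [nat_lit 1, nat_lit 0, nat_lit 2, nat_lit 1],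
   [nat_lit 1, nat_lit 2, nat_lit 1, nat_lit 0],
   [nat_lit 3, nat_lit 1, nat_lit 2, nat_lit 4, nat_lit 1, nat_lit 0, nat_lit 4],
   [nat_lit 4, nat_lit 1, nat_lit 0, nat_lit 4, nat_lit 2, nat_lit 3, nat_lit 1],
   [nat_lit 0, nat_lit 2, nat_lit 0],
   [nat_lit 4, nat_lit 2, nat_lit 4, nat_lit 2, nat_lit 4],
   [nat_lit 4, nat_lit 2, nat_lit 5, nat_lit 0, nat_lit 4, nat_lit 0, nat_lit 5],
   [nat_lit 3, nat_lit 2, nat_lit 3, nat_lit 2, nat_lit 3],
   [nat_lit 4, nat_lit 2, nat_lit 5, nat_lit 4, nat_lit 0, nat_lit 4, nat_lit 5]],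
  [[nat_lit 0, nat_lit 3, nat_lit 0, nat_lit 1],
   [nat_lit 5, nat_lit 3, nat_lit 5, nat_lit 3, nat_lit 5],
   [nat_lit 1, nat_lit 3, nat_lit 1],
   [nat_lit 4, nat_lit 3, nat_lit 4, nat_lit 3, nat_lit 4],
   [nat_lit 7],
   [nat_lit 2, nat_lit 3, nat_lit 2, nat_lit 3, nat_lit 2],
   [nat_lit 0, nat_lit 3, nat_lit 1, nat_lit 0]],
  [[nat_lit 1, nat_lit 4, nat_lit 1, nat_lit 4, nat_lit 1],
   [nat_lit 5, nat_lit 4, nat_lit 5, nat_lit 4, nat_lit 5],
   [nat_lit 3, nat_lit 1, nat_lit 5, nat_lit 1, nat_lit 2, nat_lit 1, nat_lit 5, nat_lit 1, nat_lit 3],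
   [nat_lit 3, nat_lit 4, nat_lit 3, nat_lit 4, nat_lit 3],
   [nat_lit 7],
   [nat_lit 0, nat_lit 5, nat_lit 4, nat_lit 2, nat_lit 4, nat_lit 5, nat_lit 0],
   [nat_lit 0, nat_lit 4, nat_lit 0, nat_lit 4, nat_lit 0],
   [nat_lit 2, nat_lit 4, nat_lit 5, nat_lit 0, nat_lit 4, nat_lit 0, nat_lit 5],
   [nat_lit 0, nat_lit 5, nat_lit 2, nat_lit 4, nat_lit 2, nat_lit 5, nat_lit 0],
   [nat_lit 5, nat_lit 2, nat_lit 4, nat_lit 2, nat_lit 5, nat_lit 4, nat_lit 0],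
   [nat_lit 3, nat_lit 2, nat_lit 0, nat_lit 3, nat_lit 4, nat_lit 1, nat_lit 0]],
  [[nat_lit 1, nat_lit 5, nat_lit 1, nat_lit 5, nat_lit 1],
   [nat_lit 0, nat_lit 5, nat_lit 0, nat_lit 5, nat_lit 0],
   [nat_lit 3, nat_lit 5, nat_lit 3, nat_lit 5, nat_lit 3],
   [nat_lit 4, nat_lit 5, nat_lit 4, nat_lit 5, nat_lit 4],
   [nat_lit 2, nat_lit 5, nat_lit 2, nat_lit 5, nat_lit 2],
   [nat_lit 0, nat_lit 4, nat_lit 2, nat_lit 5, nat_lit 2, nat_lit 4, nat_lit 0]],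
  []]

def HT : List (List (Nat × Nat × Nat)) := [
  [(0, 6, 1), (0, 10, 1), (2, 0, 0), (0, 16, 1), (0, 12, 1), (0, 27, 1), (1, 10, 2), (0, 24, 5), (0, 22, 1), (0, 22, 3), (0, 7, 1)],
  [(0, 9, 1), (1, 10, 4), (1, 8, 2), (0, 17, 1), (2, 1, 0), (0, 20, 1), (0, 6, 0), (1, 8, 4)],
  [(0, 30, 4), (2, 2, 0), (0, 21, 1), (0, 23, 6), (0, 25, 5), (1, 8, 3), (1, 8, 1), (1, 15, 2), (1, 15, 5), (0, 7, 0), (0, 13, 1), (0, 22, 5), (0, 11, 1), (0, 27, 4)],
  [(0, 10, 3), (0, 18, 1), (0, 9, 0), (0, 14, 1), (2, 3, 0), (0, 11, 0), (1, 10, 1)],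
  [(0, 20, 0), (0, 19, 1), (0, 26, 7), (0, 14, 0), (2, 4, 0), (0, 23, 2), (0, 12, 0), (0, 23, 5), (0, 22, 2), (0, 27, 2), (1, 24, 1)],
  [(0, 17, 0), (0, 16, 0), (0, 18, 0), (0, 19, 0), (0, 21, 0), (0, 25, 0)],
  []]

def R : List (List Nat) :=
  [[0, 0],
   [1, 1],
   [2, 2],
   [3, 3],
   [4, 4],
   [5, 5],
   [0, 1, 0, 1],
   [0, 2, 0, 2],
   [0, 1, 2, 1, 2],
   [1, 3, 1, 3],
   [0, 1, 3, 0, 3],
   [2, 3, 2, 3, 2, 3],
   [0, 4, 0, 4, 0, 4],
   [2, 4, 2, 4, 2, 4],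
   [3, 4, 3, 4, 3, 4],
   [0, 1, 4, 2, 1, 3, 2, 4],
   [0, 5, 0, 5, 0, 5],
   [1, 5, 1, 5, 1, 5],
   [3, 5, 3, 5, 3, 5],
   [4, 5, 4, 5, 4, 5],
   [1, 4, 1, 4, 1, 4],
   [2, 5, 2, 5, 2, 5],
   [0, 4, 0, 5, 2, 4, 2, 5],
   [0, 4, 0, 5, 4, 2, 4, 5],
   [0, 1, 4, 3, 0, 2, 3, 4],
   [0, 4, 2, 5, 2, 4, 0, 5],
   [1, 2, 1, 5, 1, 3, 4, 3, 1, 5],
   [0, 4, 5, 2, 4, 2, 5, 4],
   [0, 1, 4, 0, 2, 3, 2, 0, 4],
   [0, 1, 4, 2, 0, 3, 0, 2, 4],
   [0, 4, 5, 2, 5, 4, 0, 5]]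

def W : List (List Nat) := [[0],
   [1],
   [2],
   [3],
   [4]]

noncomputable def P : Par := ⟨T, (nat_lit 4), (nat_lit 15), (nat_lit 112), (nat_lit 14), (nat_lit 16383), (nat_lit 6), (nat_lit 63), (nat_lit 6), (nat_lit 52), (nat_lit 64), (nat_lit 0x398a418820), RT⟩

noncomputable def J0 : List Nat := [
  nat_lit 0x12c40014c40011c40014c40014c4010000084184181cc1086000810008410170508541285c0001000840013208500100a5840184c088010084200167c08401285c00010008680107058401,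
  nat_lit 0x550508419485c1c163c5858100438841b5b3b841286d09415500384150400841554308410003384182985581050398415543084150203841085d000182e87101,
  nat_lit 0x285c0881a8f88541c9d4854128420881041041041041041041041041041041041041041041041041041041041041041041041041041041041041041041041041041041041041041041041041041041]

theorem c0 : chk T (nat_lit 4) (nat_lit 15) (nat_lit 112) (nat_lit 14) (nat_lit 16383) (nat_lit 6) (nat_lit 63) (nat_lit 6) (nat_lit 52) (nat_lit 64) (nat_lit 0x398a418820) (nat_lit 4) (nat_lit 15) RT (nat_lit 16) J0 (nat_lit 16) = true := by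
  decide +kernel

theorem r0 : P.RowsOK 16 64 := chk_sound P _ _ _ J0 _ _ (by decide +kernel) c0

theorem index.{u} : IndexLe.{u} 6 R W 36 :=
  indexLe_of_cert P HT (by decide +kernel)
    (show P.RowsOK 16 64 from r0)

end Tk1

theorem upK_1 : CardLe (genW s [[0], [1], [2], [3], [4], [5]]) 6048 :=
  CardLe.tc (V' := [[0], [1], [2], [3], [4]]) (n := 36) (m := 168) [0, 1, 2, 3, 4, 5] Tk1.index pres.sat (by decide +kernel) (by decide +kernel) (by decide +kernel) upK_2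

namespace Tk0

noncomputable def t0 : Tr := (Tr.node (nat_lit 2) (Tr.node (nat_lit 0) (Tr.leaf (nat_lit 0x6329fffc05d80ba0a3e005029684ac085ac253fff80b9066e0e78216011700280671949ffff0170004c5d90c260e6e32a005bb113fffe02d808b859b075a004c08c021e6625fffc00900b50a3802d028d829b0236ca4bfff89b0002402cc05900b1055602c19097fff015e02b80090218053202b40563112fffe12600558318053200480ce01146125fffc10b819c01540a5c0cf001202268a47fff8116002202a405400a7014c0295108ffff022a02900088115014604540512111fffe045005080a0013e004404f01984123fffc089809d0226064404e0011032e8047fff809b013402641490098012e00449887fff0020025804a82130128024c0490000fffe02440480090012002400480090))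
(Tr.node (nat_lit 1) (Tr.leaf (nat_lit 0x8633fffc00c923d0d6c0abc2ec04c701b10a67fff91bc0032035c6260bc3115c1b3204cffff068820b471d031c0b3e00641cfc019fffe1ab006b0122073c08b020f80198531fffc06a801819700350069821a01a5085ffff80d101a0005c162032a1a7408a990b7fff019e072400b04421c9a30946533196fffe489c7130441002c18a060e8d42622dfffc95401c0019c169c00b00cd0248c25bfff80cc1b50032c5ce82c8002c34a580b7fff156a06c05a18eb7024832a400b3295fffe032800a80c90a90069406401a7622bfffc0638c410c6832e800a81c40388c057fff80c6018a06b011100c40344005594a7fff0186005006100c1018002fc05f3214fffe02f405e00140b401ed021002a0))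
(Tr.leaf (nat_lit 0x8143fffc0720bc21a782d4c6dc002119930087fff80e304a40ec456c8345169200861907fff00404abc0de885f107a238849ec2a0fffe44b80100dbf21703d5076e824e863ffffc00f88bb01c406ec363073b01c30a7ffff893a003e36b469188ba1b5422ea18f7fff003c038006f8739057206e419cc31dfffe00740dc0c2b207838fc7e28dd7803bfffc06f029e0cba389434e8dc2003b0c73fff801c0e6c18bc26881b6086c0eda14dffff144a006c3680c5717643f3806ec19bfffe0cd066586a300361c8019a03348435fffc09981d700340f2c76e00dc0467066bfff80db06642c7400d0b3506a82b4208d7fff01b4074c21f054900340364560c01afffe2468092823020ac2d041a9001a))))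
(Tr.node (nat_lit 4) (Tr.node (nat_lit 3) (Tr.leaf (nat_lit 0x8653fffc014824f039e03b4a71906c23d9089ffff80ec049c009c86001d61e6a06f2053ffff268a35707ab05cd1b52009c0e44326fffe00986aa07d2195c312c0e6062e844dfffc0758c34004c0ccc66603c307870c93fff8024039407289740c5b01d4336e1127fff029204a401205b104ae2ef861fc0a4fffe03a40e40b5909480898012024d8647fffc01180e80a8e151c0e3842f01cf0c8bfff802201cc19182f1063b0abe217e1517fff279a00887ee0d5d057c40e01204122fffe0eb422c82c40454008811181238643fffc01081c3154a0970597044b08970887fff8750187e008425483421c6e32a20d0ffff01ca2e8c254002117602d4c598c121fffe495009382c0209c008466b82c5))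
(Tr.leaf (nat_lit 0xa473fffc22f85df00721ef447084c60f8d4cdffff803701e423787f80ee420de3da281affff10ba07742db8cc50ca038f001ad0b3fffe53986668f45038638cc01982dca665fffc01900f108aa43bc5e5117018954cc7fff803118b447a02ed0ce50ab4356a858ffff09b20f105640a3e06a400c41a9d02ffffe19603ec07580bce14bc2b3802fa45dfffc0780133005c2ed40e48c401a714ab3fff80ef00583b347d8014e1ea03f52995ffff0056155426d90ec19aa07b46aad1abfffe47006660d5300563af01591056a257fffc5e981311ba82afc0158ac107b340affff88ed037c1d304a803d9056000ae9957fff00543390168843601dc0d442a8d2aafffe1f08015063513a41b747eb0a32)))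
(Tr.node (nat_lit 5) (Tr.leaf (nat_lit 0xc6adfffc02b076f2acc416caf00fde20d38547fff83ee2ad81b9c2b700510bdc17ba8e7ffff10a45384135804f0bda05546b6d34efffe0138af7136520aa55c87e7914fa697fffc0258d6b05da07ac6b484642cc1432bfff90682dca198c934826a009447c29a47fff00904b885f492ea1bd63fa0877d2c7fffe43a8023915a269461cc8348edea08ffffc23094e30edc196013384d8008f4b1bfff945c008c57bca7288e60ccc239a9a0ffff008259a89f6156618b431946b2d33ffffe00fc62892f00ac8397827597f3a67dfffc01f14670dd4118ca27836327e548effff85e226d200ec2a30762107a238a81dffff09ce55b44b087e110be1f8401dd2b9fffe0fc801c86602fe659bc07996eb))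
(Tr.leaf (nat_lit 0x1fffffffffffffffffffffffffffffe0003fffffffffffffffffffffffffffffc0007fffffffffffffffffffffffffffff8000ffffffffffffffffffffffffffffff0001fffffffffffffffffffffffffffffe0003fffffffffffffffffffffffffffffc0007fffffffffffffffffffffffffffff8000ffffffffffffffffffffffffffffff0001fffffffffffffffffffffffffffffe0003fffffffffffffffffffffffffffffc0007fffffffffffffffffffffffffffff8000ffffffffffffffffffffffffffffffc1c1fffc8b982732fe45d80bf400602ec98b7bfff836000bc61cc83914ec21e44d8f16dffff07e2016c2f8917119e247c46b8e357fffe015c13812641ebc0bc086d916a)))))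

noncomputable def T : Tr := t0

def RT : List (List (List Nat)) := [
  [[nat_lit 1, nat_lit 0, nat_lit 1],
   [nat_lit 2, nat_lit 0, nat_lit 2],
   [nat_lit 8],
   [nat_lit 6, nat_lit 0, nat_lit 6, nat_lit 0, nat_lit 6, nat_lit 0, nat_lit 6],
   [nat_lit 3, nat_lit 0, nat_lit 1, nat_lit 3],
   [nat_lit 6, nat_lit 2, nat_lit 0, nat_lit 6, nat_lit 1, nat_lit 2, nat_lit 1, nat_lit 6, nat_lit 2],
   [nat_lit 2, nat_lit 5, nat_lit 6, nat_lit 1, nat_lit 3, nat_lit 6, nat_lit 4, nat_lit 5],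
   [nat_lit 5, nat_lit 0, nat_lit 5, nat_lit 0, nat_lit 5],
   [nat_lit 5, nat_lit 2, nat_lit 4, nat_lit 2, nat_lit 5, nat_lit 0, nat_lit 4],
   [nat_lit 4, nat_lit 0, nat_lit 5, nat_lit 4, nat_lit 2, nat_lit 4, nat_lit 5],
   [nat_lit 4, nat_lit 0, nat_lit 4, nat_lit 0, nat_lit 4],
   [nat_lit 1, nat_lit 2, nat_lit 1, nat_lit 2],
   [nat_lit 3, nat_lit 1, nat_lit 0, nat_lit 3],
   [nat_lit 6, nat_lit 1, nat_lit 5, nat_lit 1, nat_lit 6, nat_lit 0, nat_lit 5, nat_lit 4, nat_lit 6, nat_lit 4, nat_lit 5],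
   [nat_lit 3, nat_lit 0, nat_lit 3, nat_lit 1],
   [nat_lit 1, nat_lit 3, nat_lit 0, nat_lit 3],
   [nat_lit 2, nat_lit 1, nat_lit 2, nat_lit 1],
   [nat_lit 5, nat_lit 0, nat_lit 4, nat_lit 2, nat_lit 5, nat_lit 2, nat_lit 4],
   [nat_lit 5, nat_lit 4, nat_lit 2, nat_lit 4, nat_lit 5, nat_lit 0, nat_lit 4]],
  [[nat_lit 2, nat_lit 1, nat_lit 0, nat_lit 2],
   [nat_lit 3, nat_lit 6, nat_lit 4, nat_lit 5, nat_lit 0, nat_lit 2, nat_lit 5, nat_lit 6],
   [nat_lit 8],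
   [nat_lit 6, nat_lit 1, nat_lit 6, nat_lit 1, nat_lit 6],
   [nat_lit 3, nat_lit 1, nat_lit 3],
   [nat_lit 0, nat_lit 6, nat_lit 1, nat_lit 0, nat_lit 6, nat_lit 0, nat_lit 1, nat_lit 6],
   [nat_lit 4, nat_lit 6, nat_lit 4, nat_lit 3, nat_lit 4, nat_lit 6, nat_lit 4],
   [nat_lit 0, nat_lit 1, nat_lit 0],
   [nat_lit 4, nat_lit 1, nat_lit 4, nat_lit 1, nat_lit 4],
   [nat_lit 3, nat_lit 0, nat_lit 3, nat_lit 0],
   [nat_lit 4, nat_lit 1, nat_lit 6, nat_lit 3, nat_lit 4, nat_lit 3, nat_lit 6],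
   [nat_lit 6, nat_lit 0, nat_lit 6, nat_lit 3, nat_lit 0, nat_lit 3, nat_lit 6, nat_lit 0, nat_lit 6],
   [nat_lit 5, nat_lit 1, nat_lit 5, nat_lit 1, nat_lit 5],
   [nat_lit 0, nat_lit 3, nat_lit 0, nat_lit 3],
   [nat_lit 2, nat_lit 1, nat_lit 2, nat_lit 0],
   [nat_lit 2, nat_lit 0, nat_lit 1, nat_lit 2],
   [nat_lit 4, nat_lit 2, nat_lit 1, nat_lit 3, nat_lit 2, nat_lit 4, nat_lit 0]],
  [[nat_lit 1, nat_lit 2, nat_lit 0, nat_lit 1],
   [nat_lit 5, nat_lit 0, nat_lit 4, nat_lit 0, nat_lit 5, nat_lit 2, nat_lit 4],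
   [nat_lit 4, nat_lit 5, nat_lit 0, nat_lit 4, nat_lit 0, nat_lit 5, nat_lit 4],
   [nat_lit 6, nat_lit 2, nat_lit 6, nat_lit 2, nat_lit 6],
   [nat_lit 8],
   [nat_lit 0, nat_lit 5, nat_lit 6, nat_lit 3, nat_lit 1, nat_lit 6, nat_lit 4, nat_lit 5],
   [nat_lit 0, nat_lit 2, nat_lit 0],
   [nat_lit 4, nat_lit 0, nat_lit 5, nat_lit 0, nat_lit 4, nat_lit 2, nat_lit 5],
   [nat_lit 4, nat_lit 2, nat_lit 4, nat_lit 2, nat_lit 4],
   [nat_lit 3, nat_lit 2, nat_lit 3, nat_lit 2, nat_lit 3],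
   [nat_lit 1, nat_lit 2, nat_lit 1, nat_lit 0],
   [nat_lit 0, nat_lit 1, nat_lit 2, nat_lit 1],
   [nat_lit 1, nat_lit 0, nat_lit 2, nat_lit 1],
   [nat_lit 1, nat_lit 6, nat_lit 2, nat_lit 0, nat_lit 6, nat_lit 2, nat_lit 0, nat_lit 6, nat_lit 1],
   [nat_lit 1, nat_lit 5, nat_lit 1, nat_lit 3, nat_lit 4, nat_lit 3, nat_lit 1, nat_lit 5, nat_lit 1],
   [nat_lit 5, nat_lit 4, nat_lit 0, nat_lit 5, nat_lit 0, nat_lit 4, nat_lit 5],
   [nat_lit 5, nat_lit 2, nat_lit 5, nat_lit 2, nat_lit 5]],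
  [[nat_lit 6, nat_lit 4, nat_lit 1, nat_lit 6, nat_lit 1, nat_lit 4, nat_lit 6],
   [nat_lit 6, nat_lit 3, nat_lit 6, nat_lit 3, nat_lit 6],
   [nat_lit 8],
   [nat_lit 4, nat_lit 6, nat_lit 4, nat_lit 1, nat_lit 4, nat_lit 6, nat_lit 4],
   [nat_lit 1, nat_lit 0, nat_lit 3, nat_lit 0],
   [nat_lit 0, nat_lit 3, nat_lit 1, nat_lit 0],
   [nat_lit 2, nat_lit 0, nat_lit 3, nat_lit 4, nat_lit 1, nat_lit 0, nat_lit 4],
   [nat_lit 1, nat_lit 2, nat_lit 4, nat_lit 1, nat_lit 0, nat_lit 4, nat_lit 2],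
   [nat_lit 4, nat_lit 1, nat_lit 0, nat_lit 4, nat_lit 3, nat_lit 2, nat_lit 0],
   [nat_lit 0, nat_lit 1, nat_lit 3, nat_lit 0],
   [nat_lit 4, nat_lit 3, nat_lit 4, nat_lit 3, nat_lit 4],
   [nat_lit 4, nat_lit 3, nat_lit 6, nat_lit 1, nat_lit 4, nat_lit 1, nat_lit 6],
   [nat_lit 1, nat_lit 3, nat_lit 1],
   [nat_lit 2, nat_lit 3, nat_lit 2, nat_lit 3, nat_lit 2],
   [nat_lit 4, nat_lit 3, nat_lit 6, nat_lit 4, nat_lit 1, nat_lit 4, nat_lit 6],
   [nat_lit 1, nat_lit 6, nat_lit 4, nat_lit 5, nat_lit 2, nat_lit 0, nat_lit 5, nat_lit 6],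
   [nat_lit 1, nat_lit 6, nat_lit 5, nat_lit 2, nat_lit 0, nat_lit 5, nat_lit 4, nat_lit 6],
   [nat_lit 2, nat_lit 4, nat_lit 0, nat_lit 1, nat_lit 4, nat_lit 2, nat_lit 1],
   [nat_lit 4, nat_lit 6, nat_lit 1, nat_lit 4, nat_lit 1, nat_lit 6, nat_lit 4],
   [nat_lit 5, nat_lit 3, nat_lit 5, nat_lit 3, nat_lit 5],
   [nat_lit 0, nat_lit 3, nat_lit 0, nat_lit 1]],
  [[nat_lit 0, nat_lit 4, nat_lit 0, nat_lit 4, nat_lit 0],
   [nat_lit 6, nat_lit 4, nat_lit 6, nat_lit 4, nat_lit 6],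
   [nat_lit 0, nat_lit 4, nat_lit 5, nat_lit 2, nat_lit 4, nat_lit 2, nat_lit 5],
   [nat_lit 2, nat_lit 4, nat_lit 2, nat_lit 4, nat_lit 2],
   [nat_lit 5, nat_lit 4, nat_lit 5, nat_lit 4, nat_lit 5],
   [nat_lit 2, nat_lit 5, nat_lit 0, nat_lit 4, nat_lit 0, nat_lit 5, nat_lit 2],
   [nat_lit 8],
   [nat_lit 1, nat_lit 6, nat_lit 4, nat_lit 3, nat_lit 4, nat_lit 6, nat_lit 1],
   [nat_lit 1, nat_lit 4, nat_lit 1, nat_lit 4, nat_lit 1],
   [nat_lit 3, nat_lit 4, nat_lit 6, nat_lit 1, nat_lit 4, nat_lit 1, nat_lit 6],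
   [nat_lit 1, nat_lit 6, nat_lit 3, nat_lit 4, nat_lit 3, nat_lit 6, nat_lit 1],
   [nat_lit 2, nat_lit 1, nat_lit 3, nat_lit 2, nat_lit 4, nat_lit 0, nat_lit 1],
   [nat_lit 0, nat_lit 5, nat_lit 4, nat_lit 2, nat_lit 4, nat_lit 5, nat_lit 0],
   [nat_lit 3, nat_lit 4, nat_lit 6, nat_lit 4, nat_lit 1, nat_lit 4, nat_lit 6],
   [nat_lit 6, nat_lit 3, nat_lit 4, nat_lit 3, nat_lit 6, nat_lit 4, nat_lit 1],
   [nat_lit 3, nat_lit 6, nat_lit 1, nat_lit 4, nat_lit 1, nat_lit 6, nat_lit 3],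
   [nat_lit 3, nat_lit 4, nat_lit 3, nat_lit 4, nat_lit 3]],
  [[nat_lit 0, nat_lit 5, nat_lit 0, nat_lit 5, nat_lit 0],
   [nat_lit 2, nat_lit 5, nat_lit 2, nat_lit 5, nat_lit 2],
   [nat_lit 4, nat_lit 5, nat_lit 4, nat_lit 5, nat_lit 4],
   [nat_lit 6, nat_lit 5, nat_lit 6, nat_lit 5, nat_lit 6],
   [nat_lit 1, nat_lit 5, nat_lit 1, nat_lit 5, nat_lit 1],
   [nat_lit 2, nat_lit 5, nat_lit 4, nat_lit 0, nat_lit 5, nat_lit 0, nat_lit 4],
   [nat_lit 3, nat_lit 5, nat_lit 3, nat_lit 5, nat_lit 3],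
   [nat_lit 8],
   [nat_lit 4, nat_lit 6, nat_lit 4, nat_lit 5, nat_lit 4, nat_lit 6, nat_lit 4, nat_lit 5, nat_lit 4, nat_lit 6, nat_lit 4],
   [nat_lit 0, nat_lit 4, nat_lit 0, nat_lit 5, nat_lit 2, nat_lit 4, nat_lit 2],
   [nat_lit 1, nat_lit 6, nat_lit 0, nat_lit 5, nat_lit 4, nat_lit 6, nat_lit 4, nat_lit 5, nat_lit 0, nat_lit 6, nat_lit 1],
   [nat_lit 2, nat_lit 4, nat_lit 0, nat_lit 5, nat_lit 0, nat_lit 4, nat_lit 2],
   [nat_lit 2, nat_lit 1, nat_lit 6, nat_lit 3, nat_lit 4, nat_lit 2, nat_lit 5, nat_lit 0, nat_lit 3, nat_lit 6, nat_lit 0, nat_lit 1]],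
  [[nat_lit 1, nat_lit 6, nat_lit 1, nat_lit 6, nat_lit 1],
   [nat_lit 1, nat_lit 0, nat_lit 6, nat_lit 0, nat_lit 1, nat_lit 6, nat_lit 1, nat_lit 0],
   [nat_lit 2, nat_lit 6, nat_lit 2, nat_lit 6, nat_lit 2],
   [nat_lit 4, nat_lit 6, nat_lit 4, nat_lit 6, nat_lit 4],
   [nat_lit 3, nat_lit 6, nat_lit 3, nat_lit 6, nat_lit 3],
   [nat_lit 5, nat_lit 6, nat_lit 5, nat_lit 6, nat_lit 5],
   [nat_lit 1, nat_lit 4, nat_lit 1, nat_lit 6, nat_lit 3, nat_lit 4, nat_lit 3],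
   [nat_lit 0, nat_lit 6, nat_lit 0, nat_lit 6, nat_lit 0, nat_lit 6, nat_lit 0],
   [nat_lit 4, nat_lit 5, nat_lit 0, nat_lit 6, nat_lit 1, nat_lit 5, nat_lit 1, nat_lit 6, nat_lit 0, nat_lit 5, nat_lit 4],
   [nat_lit 4, nat_lit 5, nat_lit 4, nat_lit 6, nat_lit 4, nat_lit 5, nat_lit 4, nat_lit 6, nat_lit 4, nat_lit 5, nat_lit 4],
   [nat_lit 1, nat_lit 4, nat_lit 6, nat_lit 3, nat_lit 6, nat_lit 4, nat_lit 1]],
  []]

def HT : List (List (Nat × Nat × Nat)) := [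
  [(0, 7, 1), (0, 8, 1), (2, 0, 0), (0, 32, 1), (0, 11, 4), (1, 39, 7), (0, 38, 1), (0, 17, 1), (0, 23, 3), (0, 24, 1), (0, 13, 1), (0, 9, 1), (1, 11, 2), (0, 40, 7), (1, 11, 0), (0, 11, 1), (1, 9, 0), (0, 37, 7), (0, 24, 3)],
  [(1, 9, 2), (0, 38, 5), (2, 1, 0), (0, 25, 1), (0, 10, 1), (1, 36, 5), (0, 50, 1), (0, 7, 0), (0, 21, 1), (0, 11, 2), (0, 30, 1), (0, 42, 6), (0, 18, 1), (1, 11, 4), (0, 9, 2), (0, 9, 4), (0, 16, 2)],
  [(0, 9, 3), (0, 23, 7), (0, 24, 6), (0, 26, 1), (2, 2, 0), (1, 41, 8), (0, 8, 0), (0, 37, 5), (0, 14, 1), (0, 12, 1), (1, 9, 1), (0, 9, 0), (1, 9, 3), (1, 39, 3), (0, 43, 2), (0, 49, 4), (0, 22, 1)],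
  [(0, 34, 4), (0, 29, 1), (2, 3, 0), (0, 50, 5), (1, 11, 3), (1, 11, 1), (1, 33, 2), (1, 16, 3), (1, 33, 5), (0, 11, 0), (0, 15, 1), (0, 30, 5), (0, 10, 0), (0, 12, 0), (0, 35, 4), (1, 41, 3), (1, 38, 4), (0, 16, 6), (0, 31, 6), (0, 19, 1), (0, 11, 3)],
  [(0, 13, 0), (0, 27, 1), (0, 46, 0), (0, 14, 0), (0, 20, 1), (0, 23, 6), (2, 4, 0), (0, 31, 2), (0, 21, 0), (0, 31, 5), (0, 30, 2), (0, 16, 3), (0, 24, 2), (0, 50, 4), (0, 35, 2), (0, 30, 6), (0, 15, 0)],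
  [(0, 17, 0), (0, 22, 0), (0, 20, 0), (0, 28, 1), (0, 18, 0), (0, 49, 3), (0, 19, 0), (2, 5, 0), (0, 44, 2), (0, 23, 0), (0, 40, 10), (0, 37, 4), (0, 45, 3)],
  [(0, 25, 0), (1, 36, 7), (0, 26, 0), (0, 27, 0), (0, 29, 0), (0, 28, 0), (0, 30, 0), (0, 32, 0), (0, 40, 4), (0, 44, 0), (0, 34, 0)],
  []]

def R : List (List Nat) :=
  [[0, 0],
   [1, 1],
   [2, 2],
   [3, 3],
   [4, 4],
   [5, 5],
   [6, 6],
   [0, 1, 0, 1],
   [0, 2, 0, 2],
   [0, 1, 2, 1, 2],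
   [1, 3, 1, 3],
   [0, 1, 3, 0, 3],
   [2, 3, 2, 3, 2, 3],
   [0, 4, 0, 4, 0, 4],
   [2, 4, 2, 4, 2, 4],
   [3, 4, 3, 4, 3, 4],
   [0, 1, 4, 2, 1, 3, 2, 4],
   [0, 5, 0, 5, 0, 5],
   [1, 5, 1, 5, 1, 5],
   [3, 5, 3, 5, 3, 5],
   [4, 5, 4, 5, 4, 5],
   [1, 4, 1, 4, 1, 4],
   [2, 5, 2, 5, 2, 5],
   [0, 4, 0, 5, 2, 4, 2, 5],
   [0, 4, 0, 5, 4, 2, 4, 5],
   [1, 6, 1, 6, 1, 6],
   [2, 6, 2, 6, 2, 6],
   [4, 6, 4, 6, 4, 6],
   [5, 6, 5, 6, 5, 6],
   [3, 6, 3, 6, 3, 6],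
   [1, 4, 1, 6, 3, 4, 3, 6],
   [1, 4, 1, 6, 4, 3, 4, 6],
   [0, 6, 0, 6, 0, 6, 0, 6],
   [0, 1, 4, 3, 0, 2, 3, 4],
   [1, 4, 6, 3, 6, 4, 1, 6],
   [1, 4, 6, 3, 4, 3, 6, 4],
   [0, 1, 6, 0, 1, 6, 1, 0, 6],
   [0, 4, 2, 5, 2, 4, 0, 5],
   [0, 2, 5, 6, 1, 3, 6, 4, 5],
   [0, 2, 6, 0, 2, 6, 1, 2, 1, 6],
   [0, 5, 4, 6, 4, 5, 0, 6, 1, 5, 1, 6],
   [0, 2, 5, 4, 6, 1, 3, 6, 5],
   [0, 3, 6, 0, 6, 1, 6, 0, 6, 3],
   [1, 2, 1, 5, 1, 3, 4, 3, 1, 5],
   [4, 5, 4, 6, 4, 5, 4, 6, 4, 5, 4, 6],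
   [0, 1, 5, 2, 1, 6, 3, 4, 2, 5, 0, 3, 6],
   [0, 4, 5, 2, 4, 2, 5, 4],
   [0, 1, 4, 0, 2, 3, 2, 0, 4],
   [0, 1, 4, 2, 0, 3, 0, 2, 4],
   [0, 4, 5, 2, 5, 4, 0, 5],
   [1, 4, 6, 4, 3, 4, 6, 4]]

def W : List (List Nat) := [[0],
   [1],
   [2],
   [3],
   [4],
   [5]]

noncomputable def P : Par := ⟨T, (nat_lit 4), (nat_lit 15), (nat_lit 135), (nat_lit 15), (nat_lit 32767), (nat_lit 7), (nat_lit 127), (nat_lit 7), (nat_lit 116), (nat_lit 128), (nat_lit 0x8398a418820), RT⟩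

noncomputable def J0 : List Nat := [
  nat_lit 0x458400116100049840011610004d840013e10010000000208182001c000010410092010100208000201020058202810000004138114101800181182080a01010010a82000100000041001294a060208100a0800e001000000410011c1100a000100190540001,
  nat_lit 0x4a80c820001000000410018290180000100a0d58000100000041001820380000010410300200140209c000010197062038113814820001619608200010380004100182b4ac402813410240c4010380c04100100002016081,
  nat_lit 0x820400821018820c8000010011044800150000820501319504003010000004138129ca01aa0818294b8020010280e196081394a3002081482409413810140303608100000041301100a0182081826000e000104140048001,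
  nat_lit 0x20b8c30010001040200170140820501001401960811820a0a000148100041001000a0582081014ae48208104114c06001100008245810000e1960813180282800179500002081141418001015a40082700100000196081,
  nat_lit 0x800003410017200318208182900da200103e0d803301019d0548201901400160811446e2c10016408f8240018206ac4b2016c16564360191412016081900a08020811419464600182a49dc2201000001820816b01082c281,
  nat_lit 0x34100182972ca00013196d820281034b100a081000ae016081914a00120814ba2304138182940000481980001c10010480019a0810417ad20101194a20160818140e18208168e105e528118a0bda3201694a3196081,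
  nat_lit 0x118a31960814be55341381a391504138114141846101020408102040810204081020408102040810204081020408102040810204081020408102040810204081020408102040810204081020408102040810204081020408102040810204081020408102040810204081]

theorem c0 : chk T (nat_lit 4) (nat_lit 15) (nat_lit 135) (nat_lit 15) (nat_lit 32767) (nat_lit 7) (nat_lit 127) (nat_lit 7) (nat_lit 116) (nat_lit 128) (nat_lit 0x8398a418820) (nat_lit 5) (nat_lit 31) RT (nat_lit 16) J0 (nat_lit 16) = true := by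
  decide +kernel

theorem r0 : P.RowsOK 16 128 := chk_sound P _ _ _ J0 _ _ (by decide +kernel) c0

theorem index.{u} : IndexLe.{u} 7 R W 100 :=
  indexLe_of_cert P HT (by decide +kernel)
    (show P.RowsOK 16 128 from r0)

end Tk0

theorem upK : CardLe (genW s [[0], [1], [2], [3], [4], [5], [6]]) 604800 :=
  CardLe.tc (V' := [[0], [1], [2], [3], [4], [5]]) (n := 100) (m := 6048) [0, 1, 2, 3, 4, 5, 6] Tk0.index pres.sat (by decide +kernel) (by decide +kernel) (by decide +kernel) upK_1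

theorem up : CardLe (gen s 8) 251596800 := upK.step (Top.index _ s pres.sat)

end Cfsg.Agent.SchurG.G24
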